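import Mathlib
import Cfsg.Prelude.Def_AxialAlgebras

set_option autoImplicit false

namespace Cfsg.Agent.Lib.Helper24.SAK

open Cfsg.Axial

variable {V : Type*} [AddCommGroup V] [Module ℝ V]

noncomputable def sg (mul : V →ₗ[ℝ] V →ₗ[ℝ] V) (x y : V) : V := mul x y - (1 / 32 : ℝ) • (x + y)

noncomputable def u0 (mul : V →ₗ[ℝ] V →ₗ[ℝ] V) (B : LinearMap.BilinForm ℝ V) (μ : V ≃ₗ[ℝ] V) (a b : V) : V :=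
  (7 / 16 : ℝ) • (b + μ b) - (4 : ℝ) • sg mul a b + (3 * B a b - 1 / 8) • a

noncomputable def u4 (mul : V →ₗ[ℝ] V →ₗ[ℝ] V) (B : LinearMap.BilinForm ℝ V) (μ : V ≃ₗ[ℝ] V) (a b : V) : V :=
  (1 / 16 : ℝ) • (b + μ b) + (4 : ℝ) • sg mul a b - (4 * B a b - 1 / 8) • a

def Cfg (mul : V →ₗ[ℝ] V →ₗ[ℝ] V) (B : LinearMap.BilinForm ℝ V) (μ₀ μ₁ : V ≃ₗ[ℝ] V) (a0 a1 : V) : Prop :=
  IsMajoranaAmbient mul B ∧ IsMajoranaPair mul B μ₀ a0 ∧ IsMajoranaPair mul B μ₁ a1 ∧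
    B a0 a0 = 1 ∧ B a1 a1 = 1

def Dih (mul : V →ₗ[ℝ] V →ₗ[ℝ] V) (B : LinearMap.BilinForm ℝ V) (μ₀ μ₁ : V ≃ₗ[ℝ] V)
    (am2 am1 a0 a1 a2 a3 s1 s2e s2o : V) (l m n k p q r : ℝ) : Prop :=
  Cfg mul B μ₀ μ₁ a0 a1 ∧ a2 = μ₁ a0 ∧ am1 = μ₀ a1 ∧ am2 = μ₀ a2 ∧ a3 = μ₁ am1 ∧
    s1 = sg mul a0 a1 ∧ s2e = sg mul a0 a2 ∧ s2o = sg mul a1 am1 ∧
    l = B a0 a1 ∧ m = B a0 a2 ∧ n = B a1 am1 ∧ k = B a0 a3 ∧ p = B am2 a2 ∧ q = B am1 a3 ∧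
    r = B am2 a3

end Cfsg.Agent.Lib.Helper24.SAK
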